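import Groth.Prelude.Def_Algz
import Groth.Agent.CycLimLib.Dim
import Groth.Agent.AlgSpLib.FibrePts
import Groth.Agent.FibDimLib.Pure

/-! Codimensions between points, transcendence degrees and dimensions of closures. -/

set_option autoImplicit false
set_option linter.style.haveILetI false
set_option maxHeartbeats 1000000

universe u

open AlgebraicGeometry CategoryTheory Limits EquidimLib Topology

namespace DeltaDimLib

variable {X : Scheme.{u}}

/-- Chains of points give chains of irreducible closed subsets. -/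
theorem length_le_topologicalKrullDim (T : Set X) {n : ℕ} (c : Fin (n + 1) → X) (hc : ∀ i, c i ∈ T)
    (hmono : ∀ i j, i < j → c j ⤳ c i ∧ c j ≠ c i) : (n : WithBot ℕ∞) ≤ topologicalKrullDim ↥T := by
  let Z : Fin (n + 1) → TopologicalSpace.IrreducibleCloseds T := fun i =>
    ⟨closure {⟨c i, hc i⟩}, isIrreducible_singleton.closure, isClosed_closure⟩
  have hlt : StrictMono Z := fun i j hij => by
    obtain ⟨h1, h2⟩ := hmono i j hij
    have hs : (⟨c j, hc j⟩ : T) ⤳ ⟨c i, hc i⟩ := (subtype_specializes_iff _ _).2 h1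
    refine lt_of_le_not_ge (fun w hw => closure_minimal (Set.singleton_subset_iff.2 (specializes_iff_mem_closure.1 hs))
      isClosed_closure hw) fun h => h2 ?_
    have h3 : (⟨c i, hc i⟩ : T) ⤳ ⟨c j, hc j⟩ := specializes_iff_mem_closure.2 (h (subset_closure rfl))
    exact congrArg Subtype.val ((h3.antisymm hs).eq).symm
  exact le_iSup_of_le (LTSeries.mk n Z hlt) le_rfl

/-- The codimension of one point in another is the dimension of the interval between them. -/
theorem codimPt_eq_dimBetween {w v : X} (h : w ⤳ v) :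
    ((Algz.codimPt w v h : ℕ∞) : WithBot ℕ∞) = dimBetween w v := by
  let y₀ : Set.Ici (Specialization.toEquiv v) := ⟨Specialization.toEquiv w, Specialization.toEquiv_le_toEquiv.mpr h⟩
  show ((Order.height y₀ : ℕ∞) : WithBot ℕ∞) = _
  rw [Order.height_eq_krullDim_Iic]
  apply le_antisymm
  · refine iSup_le fun l => ?_
    refine length_le_topologicalKrullDim _ (fun i => Specialization.ofEquiv (l i).1.1) (fun i => ⟨?_, ?_⟩) fun i j hij => ⟨?_, ?_⟩
    · exact Specialization.toEquiv_le_toEquiv.1 (show (l i).1.1 ≤ y₀.1 from (l i).2)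
    · exact Specialization.toEquiv_le_toEquiv.1 (show Specialization.toEquiv v ≤ (l i).1.1 from (l i).1.2)
    · exact Specialization.toEquiv_le_toEquiv.1 (show (l i).1.1 ≤ (l j).1.1 from (l.strictMono hij).le)
    · intro he
      exact (l.strictMono hij).ne' (Subtype.ext (Subtype.ext (Specialization.ofEquiv.injective he)))
  · obtain ⟨P, rfl⟩ := exists_stalkPt h
    rw [← stalk_quotient_dim_eq, ringKrullDim, ← Order.krullDim_orderDual]
    let g : (PrimeSpectrum (X.presheaf.stalk v ⧸ P.asIdeal))ᵒᵈ → Set.Iic y₀ := fun q =>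
      ⟨⟨Specialization.toEquiv (stalkPt v (PrimeSpectrum.comap (Ideal.Quotient.mk P.asIdeal) (OrderDual.ofDual q))),
        Specialization.toEquiv_le_toEquiv.mpr (stalkPt_specializes v _)⟩,
        Specialization.toEquiv_le_toEquiv.mpr (specializes_stalkPt (fun r hr => by
          show Ideal.Quotient.mk P.asIdeal r ∈ (OrderDual.ofDual q).asIdeal
          rw [Ideal.Quotient.eq_zero_iff_mem.2 hr]; exact Ideal.zero_mem _))⟩
    refine Order.krullDim_le_of_strictMono g fun a b hab => lt_of_le_of_ne ?_ fun he => hab.ne ?_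
    · exact Specialization.toEquiv_le_toEquiv.mpr
        (specializes_stalkPt (Ideal.comap_mono (show (OrderDual.ofDual b).asIdeal ≤ (OrderDual.ofDual a).asIdeal from hab.le)))
    · have h1 := congrArg (fun t : Set.Iic y₀ => Specialization.ofEquiv t.1.1) he
      exact congrArg OrderDual.toDual (PrimeSpectrum.comap_injective_of_surjective _ Ideal.Quotient.mk_surjective
        (stalkPt_injective v h1))

theorem exists_codimPt_eq_nat [IsLocallyNoetherian X] {w v : X} (h : w ⤳ v) :
    ∃ n : ℕ, Algz.codimPt w v h = n ∧ dimBetween w v = n := by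
  obtain ⟨n, hn⟩ := exists_dimBetween_eq_nat h
  refine ⟨n, ?_, hn⟩
  have := (codimPt_eq_dimBetween h).trans hn
  exact_mod_cast this

section

attribute [local instance] specializationOrder

/-- The dimension of a sober space is bounded by the lengths of specialization chains. -/
theorem topologicalKrullDim_le_of_chains {A : Type u} [TopologicalSpace A] [T0Space A] [QuasiSober A]
    (d : WithBot ℕ∞) (h : ∀ (n : ℕ) (c : Fin (n + 1) → A), (∀ i j, i < j → c j ⤳ c i ∧ c j ≠ c i) → (n : WithBot ℕ∞) ≤ d) :
    topologicalKrullDim A ≤ d := by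
  rw [FibDimLib.topologicalKrullDim_eq_krullDim']
  exact iSup_le fun l => h l.length l fun i j hij => ⟨(l.strictMono hij).le, (l.strictMono hij).ne'⟩

end

/-- A dimension of a closure is computed at closed points. -/
theorem topologicalKrullDim_closure_le [CompactSpace X] (x : X) (d : WithBot ℕ∞)
    (hd : ∀ z, IsClosed ({z} : Set X) → x ⤳ z → dimBetween x z ≤ d) :
    topologicalKrullDim ↥(closure ({x} : Set X)) ≤ d := by
  haveI : QuasiSober ↥(closure ({x} : Set X)) := isClosed_closure.isClosedEmbedding_subtypeVal.quasiSober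
  refine topologicalKrullDim_le_of_chains d fun n c hc => ?_
  obtain ⟨z, hz, hzc⟩ := (isClosed_closure (s := ({(c 0).1} : Set X))).exists_closed_singleton ⟨_, subset_closure rfl⟩
  have h0 : (c 0).1 ⤳ z := specializes_iff_mem_closure.2 hz
  have hx : ∀ i, x ⤳ (c i).1 := fun i => specializes_iff_mem_closure.2 (c i).2
  refine le_trans ?_ (hd z hzc ((hx 0).trans h0))
  have key : ∀ i j, i ≤ j → (c j).1 ⤳ (c i).1 := fun i j hij => by
    rcases hij.eq_or_lt with rfl | hlt
    · exact specializes_rfl
    · exact (subtype_specializes_iff _ _).1 (hc i j hlt).1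
  exact length_le_topologicalKrullDim _ (fun i => (c i).1)
    (fun i => ⟨hx i, (key 0 i (Fin.zero_le i)).trans h0⟩)
    fun i j hij => ⟨key i j hij.le, fun he => (hc i j hij).2 (Subtype.ext he)⟩

theorem dimBetween_le_closure (x z : X) : dimBetween x z ≤ topologicalKrullDim ↥(closure ({x} : Set X)) :=
  (IsEmbedding.inclusion (fun _ h => specializes_iff_mem_closure.1 h.1)).isInducing.topologicalKrullDim_le

variable {Y : Scheme.{u}}

/-- The transcendence degree of a residue extension is at most the dimension of the fibre. -/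
theorem toENat_resTrdeg_le (f : X ⟶ Y) [LocallyOfFiniteType f] (x : X) {e : ℕ}
    (he : topologicalKrullDim ↥(f.fiber (f x)) ≤ (e : WithBot ℕ∞)) :
    Cardinal.toENat (Dual3.resTrdeg f x) ≤ (e : ℕ∞) := by
  have h : UOpenLib.fibreClosureDim f x ≤ (e : WithBot ℕ∞) :=
    (IsEmbedding.subtypeVal.isInducing.topologicalKrullDim_le).trans he
  rw [AlgSpLib.fibreClosureDim_eq_resTrdeg] at h
  exact_mod_cast h

/-- The dimension formula for codimensions between points. -/
theorem dimBetween_add_trdeg [IsLocallyNoetherian Y] (f : X ⟶ Y) [LocallyOfFiniteType f] {a b : X} (h : a ⤳ b)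
    (hcat : CAlg.IsUniversallyCatenary (Y.presheaf.stalk (f b))) {m n s t : ℕ}
    (hm : dimBetween a b = m) (hn : dimBetween (f a) (f b) = n)
    (hs : Cardinal.toENat (Dual3.resTrdeg f b) = s) (ht : Cardinal.toENat (Dual3.resTrdeg f a) = t) :
    m + s = n + t := by
  have e := dimBetween_add_fibreClosureDim_eq f h hcat
  rw [AlgSpLib.fibreClosureDim_eq_resTrdeg, AlgSpLib.fibreClosureDim_eq_resTrdeg, hs, ht, hm, hn] at e
  exact_mod_cast e

end DeltaDimLib
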